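import Cfsg.Agent.Lib.Blocks.DihedralDefect.Shape
import Cfsg.Agent.Lib.Blocks.SemiDefect.Restrict

/-!
# Fusion of involutions and the rank of a block

Let `u` be an involution of a defect group which is not conjugate to the central involution `z`.
The values of the members at an element of the section of `u` give a relation on the regular
elements which is not induced from `C(z)`, so `k - l` exceeds the number of the induced ones.
-/

set_option autoImplicit false

namespace CfsgLib.Blocks.RankThree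

open Cfsg CfsgLib.Blocks CfsgLib.Pairs CfsgLib.Star CfsgLib.Char CfsgLib.Blocks.QuaternionDefect
  CfsgLib.Blocks.SemiDefect
open scoped Classical ComplexConjugate

variable {G : Type*} [Group G] [Fintype G] {M : Ideal AlgInt} [M.IsPrime] [Fact (Nat.Prime 2)]
  {B : Set (IrrCharacter G)}

/-- An element of the section of `u` has a power equal to `z` only if `u` is conjugate to `z`. -/
theorem not_supp_of_section {z u t v : G} (hz : z * z = 1) (hu : u * u = 1) (hu1 : u ≠ 1)
    (hz1 : z ≠ 1) (hv : IsPPart 2 t v) (hconj : IsConj u v)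
    (hne : ∀ g : G, g * u * g⁻¹ ≠ z) (x : G) : ¬ DihedralDefect.Supp z (x⁻¹ * t * x) := by
  intro hx
  have hp : IsPPart 2 (x⁻¹ * t * x) (x⁻¹ * v * x) := by
    obtain ⟨s, hs, hc, ⟨k, hk⟩, hso⟩ := hv
    have ho : ∀ a : G, orderOf (x⁻¹ * a * x) = orderOf a := fun a => by
      have := MulEquiv.orderOf_eq (MulAut.conj x⁻¹) a
      rwa [MulAut.conj_apply, inv_inv] at this
    refine ⟨x⁻¹ * s * x, by rw [← hs]; group, ?_, ⟨k, by rw [ho, hk]⟩, by rwa [ho]⟩
    calc x⁻¹ * v * x * (x⁻¹ * s * x) = x⁻¹ * (v * s) * x := by group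
      _ = x⁻¹ * (s * v) * x := by rw [hc.eq]
      _ = _ := by group
  obtain ⟨g, hg⟩ := isConj_iff.1 hconj
  have hv2 : x⁻¹ * v * x = (x⁻¹ * g) * u * (x⁻¹ * g)⁻¹ := by rw [← hg]; group
  have hmem := hx.mem_zpowers_pPart hz hp
  rw [hv2] at hmem
  refine hne (x⁻¹ * g) (DihedralFormula.involution_eq (k := (x⁻¹ * g) * u * (x⁻¹ * g)⁻¹)
    (Subgroup.mem_zpowers _) hmem ?_ hz (fun e => hu1 (conj_eq_one_iff.1 e)) hz1)
  calc (x⁻¹ * g) * u * (x⁻¹ * g)⁻¹ * ((x⁻¹ * g) * u * (x⁻¹ * g)⁻¹)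
      = (x⁻¹ * g) * (u * u) * (x⁻¹ * g)⁻¹ := by group
    _ = 1 := by rw [hu]; group

/-- A relation on the regular elements not vanishing in the section of an element of a defect
group. -/
theorem exists_lt_ker (hM : IsPModular 2 M) (hB : IsPBlock M B) {P : Subgroup G}
    (hP : IsDefectGroup 2 M B P) {u : G} (hu : u ∈ P) (hu2 : orderOf u = 2) :
    ∃ t v : G, IsPPart 2 t v ∧ IsConj u v ∧
      Module.finrank ℂ (kerAt B t) < Module.finrank ℂ (LinearMap.ker (regMap 2 B)) := by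
  obtain ⟨χ₀, hχ₀, h0⟩ := exists_height_zero (p := 2) (IsPBlock.nonempty hB)
  obtain ⟨t, ⟨v, hv, hconj⟩, hne⟩ := (exists_apply_ne_zero_iff hM hB hP hχ₀ h0
    ⟨1, by rw [hu2, pow_one]⟩).1 ⟨1, by simpa using hu⟩
  refine ⟨t, v, hv, hconj, Submodule.finrank_lt_finrank_of_lt
    (lt_of_le_of_ne inf_le_left fun he => ?_)⟩
  have ht2 : 2 ∣ orderOf t := by
    obtain ⟨s, rfl, hc, ⟨k, hk⟩, hso⟩ := hv
    obtain ⟨g, hg⟩ := isConj_iff.1 hconj
    have hv2 : orderOf v = 2 := by
      rw [← hg, ← hu2]; exact MulEquiv.orderOf_eq (MulAut.conj g) u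
    rw [hc.orderOf_mul_eq_mul_orderOf_of_coprime (by
      rw [hv2]; exact (Nat.Prime.coprime_iff_not_dvd Nat.prime_two).2 hso), hv2]
    exact dvd_mul_right _ _
  set w₀ : mems B → ℂ := fun χ => conj (((χ : IrrCharacter G) : G → ℂ) t) with hw₀
  have hmem : w₀ ∈ LinearMap.ker (regMap 2 B) := by
    rw [LinearMap.mem_ker, regMap_eq_zero_iff]
    intro g hg
    have h1 := sum_block_regular_singular hM hB hg (show 2 ∣ orderOf t⁻¹ by rwa [orderOf_inv])
    rw [finsum_mem_eq_finite_toFinset_sum _ (Set.toFinite B), ← Finset.sum_coe_sort] at h1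
    rw [← h1]
    exact Finset.sum_congr rfl fun χ _ => by
      rw [hw₀, Char.IsIrr.map_inv χ.1.2, mul_comm]
  rw [← he, mem_kerAt] at hmem
  refine hne ?_
  have h1 : ∀ χ : mems B, w₀ χ * ((χ : IrrCharacter G) : G → ℂ) t =
      (Complex.normSq (((χ : IrrCharacter G) : G → ℂ) t) : ℂ) := fun χ =>
    (Complex.normSq_eq_conj_mul_self).symm
  have h2 := hmem.2
  rw [phiMap, Finset.sum_congr rfl fun χ _ => h1 χ, ← Complex.ofReal_sum, Complex.ofReal_eq_zero,
    Finset.sum_eq_zero_iff_of_nonneg fun χ _ => Complex.normSq_nonneg _] at h2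
  exact Complex.normSq_eq_zero.1
    (h2 ⟨χ₀, (Set.Finite.mem_toFinset _).2 hχ₀⟩ (Finset.mem_univ _))

/-- Dihedral defect: an unfused reflection gives `q + 1` relations. -/
theorem blockRank_lt_of_dihedral (hM : IsPModular 2 M) (hB : IsPBlock M B) {P : Subgroup G}
    (hP : IsDefectGroup 2 M B P) {σ τ : G} {q : ℕ} {l : Subgroup.zpowers σ →* ℂˣ}
    (h : DihedralDefect.Dih P σ τ q l) {u : G} (hu : u ∈ P) (hu2 : orderOf u = 2)
    (hne : ∀ g : G, g * u * g⁻¹ ≠ σ ^ q) : blockRank 2 B + q + 1 ≤ Nat.card B := by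
  obtain ⟨H, b, D, σ', τ', l', e, F, ξ₀, Φ, C, hσ⟩ :=
    DihedralDefect.exists_ctx_of_dih hM hB hP h
  have := Fintype.ofFinite (IrrCharacter D)
  obtain ⟨t, v, hv, hconj, hlt⟩ := exists_lt_ker hM hB hP hu hu2
  have huu : u * u = 1 := by rw [← pow_two, ← hu2, pow_orderOf_eq_one]
  have hsupp := fun x => not_supp_of_section h.z_sq huu
    (fun e => by rw [e, orderOf_one] at hu2; omega) h.z_ne hv hconj hne x
  have hz : ((σ' ^ q : H) : G) = σ ^ q := by rw [SubgroupClass.coe_pow, hσ]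
  let w : Fin q → kerAt B t := fun j => ⟨fun χ => (C.coef ((j : ℕ) + 1) χ.1 : ℂ), by
    rw [mem_kerAt]
    refine ⟨fun g hg => ?_, ?_⟩
    · rw [phiMap, Finset.sum_coe_sort (mems B)
        (fun χ => (C.coef ((j : ℕ) + 1) χ : ℂ) * (χ : G → ℂ) g)]
      exact C.sum_coef_regular _ hg
    · rw [phiMap, Finset.sum_coe_sort (mems B)
        (fun χ => (C.coef ((j : ℕ) + 1) χ : ℂ) * (χ : G → ℂ) t)]
      refine (C.indFun_eq_sum _ t).symm.trans
        (DihedralDefect.indFun_eq_zero_of_not_supp (C.supp_dlt _) fun x => ?_)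
      rw [hz]
      exact hsupp x⟩
  have hli : LinearIndependent ℂ w :=
    LinearIndependent.of_comp (kerAt B t).subtype C.linearIndependent_coef
  have h1 := hli.fintype_card_le_finrank
  rw [Fintype.card_fin] at h1
  have h2 := blockRank_add_ker (p := 2) (B := B)
  omega

/-- Semidihedral defect: an unfused involution gives `2 r + 2` relations. -/
theorem blockRank_lt_of_semi (hM : IsPModular 2 M) (hB : IsPBlock M B) {P : Subgroup G}
    (hP : IsDefectGroup 2 M B P) {σ τ : G} {r : ℕ} {l : Subgroup.zpowers σ →* ℂˣ}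
    (h : Semi P σ τ r l) (hne : ∀ g : G, g * τ * g⁻¹ ≠ σ ^ (2 * r)) :
    blockRank 2 B + 2 * r + 2 ≤ Nat.card B := by
  obtain ⟨c, hc⟩ := exists_pairOf_of_isDefectGroup hM hB hP
  have hmax := isMaximal_of_isDefectGroup hM hc hP
  obtain ⟨b, hb, -, hind, -, hD⟩ := exists_local_pair hM hmax h
  have hPH : P ≤ Subgroup.centralizer (Subgroup.zpowers (σ ^ (2 * r)) : Set G) := fun x hx => by
    rw [DihedralDefect.centralizer_zpowers]
    exact Subgroup.mem_centralizer_singleton_iff.2 (h.z_commute hx).symm.eq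
  obtain ⟨l', h'⟩ := h.subgroupOf hPH
  have hzH : ∀ g : Subgroup.centralizer (Subgroup.zpowers (σ ^ (2 * r)) : Set G),
      Commute ((⟨σ, hPH h.memσ⟩ : Subgroup.centralizer
        (Subgroup.zpowers (σ ^ (2 * r)) : Set G)) ^ (2 * r)) g := fun g => Subtype.ext (by
    simpa using Subgroup.mem_centralizer_iff.1 g.2 _ (Subgroup.mem_zpowers (σ ^ (2 * r))))
  obtain ⟨hdim, hsupp⟩ := kerAt_of_central hM hb hD h' hzH
  obtain ⟨t, v, hv, hconj, hlt⟩ := exists_lt_ker hM hB hP h.memτ h.τ_ord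
  have h1 := finrank_le_kerAt (B := B) hM h.z_sq h.z_ne rfl hind _
    (fun w hw g hne => by
      obtain ⟨k, hk⟩ := hsupp w hw g hne
      exact ⟨k, by simpa using congrArg Subtype.val hk⟩)
    (t := t) fun x => not_supp_of_section h.z_sq h.τ_sq (fun e => h.notMem (e ▸ one_mem _))
      h.z_ne hv hconj hne x
  have h2 := blockRank_add_ker (p := 2) (B := B)
  omega

/-- A central involution of a dihedral defect group leaves a single Brauer character. -/
theorem blockRank_eq_one_of_dihedral_central (hM : IsPModular 2 M) (hB : IsPBlock M B)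
    {P : Subgroup G} (hP : IsDefectGroup 2 M B P) {σ τ : G} {q : ℕ}
    {l : Subgroup.zpowers σ →* ℂˣ} (h : DihedralDefect.Dih P σ τ q l)
    (hz : ∀ g : G, Commute (σ ^ q) g) : blockRank 2 B = 1 := by
  obtain ⟨e, F, ξ₀, Φ, L⟩ := DihedralDefect.exists_loc hM hB hP h hz
  have hne : pRegularPart 2 (ξ₀ : G → ℂ) ≠ 0 := fun e => by
    have := congrFun e 1
    rw [pRegularPart, if_pos (show IsPRegular 2 (1 : G) by simp [IsPRegular])] at this
    exact Char.IsIrr.apply_one_ne_zero ξ₀.2 this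
  rw [blockRank]
  refine le_antisymm ?_ ?_
  · refine le_trans (Submodule.finrank_mono (t := Submodule.span ℂ {pRegularPart 2 (ξ₀ : G → ℂ)})
      (Submodule.span_le.2 ?_)) (by rw [finrank_span_singleton hne])
    rintro _ ⟨ξ, hξ, rfl⟩
    obtain ⟨η, hη⟩ := Φ.surjective ⟨ξ, hξ⟩
    refine Submodule.mem_span_singleton.2 ⟨(η : P → ℂ) 1, funext fun w => ?_⟩
    have h1 : (ξ : G → ℂ) = ((Φ η : IrrCharacter G) : G → ℂ) := by rw [hη]
    simp only [Pi.smul_apply, smul_eq_mul, pRegularPart]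
    split_ifs with hw
    · rw [h1, L.formula, star_apply_regular hM L.hF L.mem (isStableChar_extP L.inn η) hw,
        ← Subgroup.coe_one P, extP_coe]
    · rw [mul_zero]
  · rw [← finrank_span_singleton (K := ℂ) hne]
    exact Submodule.finrank_mono (Submodule.span_mono
      (Set.singleton_subset_iff.2 ⟨ξ₀, L.mem, rfl⟩))

end CfsgLib.Blocks.RankThree
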