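import Cfsg.Agent.Lib.Blocks.RankThree.Fusion
import Cfsg.Agent.Lib.Blocks.HeightPSolvable
import Cfsg.Agent.Lib.Fusion.RankTwoExamples
import Cfsg.Agent.Lib.Core.PLengthTwoMaximal
import Cfsg.Agent.S4436
import Cfsg.Agent.S4528
import Cfsg.Agent.S4529

/-!
# Blocks of rank three with dihedral or semidihedral defect groups and solvable groups

In a solvable group such a block would, after the Fong-Reynolds reduction, have a Sylow
2-subgroup as defect group in which non-commuting involutions are conjugate to the central one.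
Modulo `O_{2'}` all these involutions lie in the centre of `O_2`, which is absurd.
-/

set_option autoImplicit false

open scoped Classical

namespace CfsgLib.Blocks.RankThree

open Cfsg CfsgLib.Blocks CfsgLib.Char CfsgLib.Blocks.SemiDefect

/-- In a solvable group the conjugates in a Sylow 2-subgroup of a central element of it that lie
in the group commute. -/
theorem commute_of_fused {G : Type*} [Group G] [Finite G] (hsol : Group.IsSolvable G)
    (S : Sylow 2 G) {z τ y : G} (hz : z ∈ S) (hzc : ∀ g ∈ S, Commute z g) (hτ : τ ∈ S)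
    (hy : y ∈ S) (hτz : ∃ g : G, g * τ * g⁻¹ = z) (hyz : ∃ g : G, g * y * g⁻¹ = z) :
    Commute τ y := by
  have : Fact (Nat.Prime 2) := ⟨Nat.prime_two⟩
  set N := pPrimeCore 2 G
  set π := QuotientGroup.mk' N
  have hps : IsPSolvable 2 G := CfsgLib.Core.isPSolvable_of_isSolvable hsol
  have hcon := PLocal.isPConstrained_iff.1 (PLocal.isPConstrained_of_isPSolvable hps)
  set Q := pCore 2 (G ⧸ N)
  have hQS : Q ≤ (S : Subgroup G).map π := by
    have h := CfsgLib.Core.pCore_le_sylow (S.mapSurjective (QuotientGroup.mk'_surjective N))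
    rwa [Sylow.coe_mapSurjective] at h
  have hcent : π z ∈ Subgroup.centralizer (Q : Set (G ⧸ N)) := by
    refine Subgroup.mem_centralizer_iff.2 fun a ha => ?_
    obtain ⟨s, hs, rfl⟩ := hQS ha
    rw [← map_mul, ← map_mul, (hzc s hs).eq]
  have hzQ : π z ∈ Q := hcon hcent
  have : Q.Normal := inferInstance
  have hconj : ∀ x : G, (∃ g : G, g * x * g⁻¹ = z) →
      π x ∈ Q ∧ π x ∈ Subgroup.centralizer (Q : Set (G ⧸ N)) := by
    rintro x ⟨g, hg⟩
    have hx : π x = (π g)⁻¹ * π z * (π g)⁻¹⁻¹ := by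
      rw [← hg, map_mul, map_mul, map_inv]
      group
    rw [hx]
    exact ⟨Subgroup.Normal.conj_mem inferInstance _ hzQ _,
      Subgroup.Normal.conj_mem inferInstance _ hcent _⟩
  have hc : π y * π τ = π τ * π y :=
    Subgroup.mem_centralizer_iff.1 (hconj τ hτz).2 _ (hconj y hyz).1
  have hmem : (τ * y * τ⁻¹ * y⁻¹) ∈ N := by
    rw [← QuotientGroup.eq_one_iff, ← QuotientGroup.mk'_apply]
    show π _ = 1
    simp only [map_mul, map_inv]
    rw [← hc]
    group
  have hS : (τ * y * τ⁻¹ * y⁻¹) ∈ (S : Subgroup G) :=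
    mul_mem (mul_mem (mul_mem hτ hy) (inv_mem hτ)) (inv_mem hy)
  obtain ⟨k, hk⟩ := IsPGroup.iff_card.1 S.isPGroup'
  have hdisj : Disjoint (S : Subgroup G) N :=
    Subgroup.disjoint_of_coprime_natCard (by
      rw [hk]
      exact (CfsgLib.Core.coprime_card_pPrimeCore 2 G).symm.pow_left k)
  have h1 := (Subgroup.disjoint_def.1 hdisj) hS hmem
  rwa [mul_inv_eq_one, mul_inv_eq_iff_eq_mul] at h1

/-- Dihedral of order at least 8 or semidihedral. -/
def IsTame (D : Type*) [Group D] : Prop :=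
  (∃ n : ℕ, 3 ≤ n ∧ Nonempty (D ≃* DihedralGroup (2 ^ (n - 1)))) ∨ Cfsg.IsQuasiDihedral D

theorem IsTame.congr {A B : Type*} [Group A] [Group B] (e : A ≃* B) (h : IsTame A) : IsTame B := by
  rcases h with ⟨n, hn, ⟨f⟩⟩ | h
  · exact Or.inl ⟨n, hn, ⟨e.symm.trans f⟩⟩
  · exact Or.inr (CfsgLib.Fusion.isQuasiDihedral_congr e h)

universe u

variable {G : Type u} [Group G] [Fintype G] {M : Ideal AlgInt} [M.IsPrime] [Fact (Nat.Prime 2)]
  {B : Set (IrrCharacter G)}

/-- Coordinates of a tame defect group, with the number of members of a block of rank three. -/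
theorem coords_of_rank_three (hM : IsPModular 2 M) (hB : IsPBlock M B) {D : Subgroup G}
    (hD : IsDefectGroup 2 M B D) (hD' : IsTame D) (hl : blockRank 2 B = 3) :
    (∃ (σ τ : G) (q : ℕ) (l : Subgroup.zpowers σ →* ℂˣ),
      DihedralDefect.Dih D σ τ q l ∧ Nat.card B = q + 3) ∨
    (∃ (σ τ : G) (r : ℕ) (l : Subgroup.zpowers σ →* ℂˣ),
      Semi D σ τ r l ∧ Nat.card B = 2 * r + 4) := by
  rcases hD' with ⟨n, hn, hdih⟩ | hsd
  · left
    obtain ⟨hk, -⟩ := Cfsg.Agent.S4528.result M hM B hB D hD n hn hdih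
    obtain ⟨m, rfl⟩ : ∃ m, n = m + 3 := ⟨n - 3, by omega⟩
    obtain ⟨eP⟩ := hdih
    rw [show m + 3 - 1 = m + 2 by omega,
      show 2 ^ (m + 2) = 2 * 2 ^ (m + 1) by rw [pow_succ']] at eP
    have hr : 2 ≤ 2 ^ (m + 1) :=
      le_trans (by norm_num) (Nat.pow_le_pow_right (by norm_num) (Nat.le_add_left 1 m))
    obtain ⟨σ, τ, l, h⟩ := DihedralDefect.exists_dih D hr ⟨m + 1, rfl⟩ eP
    exact ⟨σ, τ, _, l, h, by rw [hk, show m + 3 - 2 = m + 1 by omega]⟩
  · right
    obtain ⟨n, hn, hcard, hxy⟩ := hsd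
    have hsd' : Cfsg.IsQuasiDihedral D := ⟨n, hn, hcard, hxy⟩
    obtain ⟨-, -, -, h3, -⟩ :=
      Cfsg.Agent.S4529.result M hM B hB D hD (n + 1) (by omega) hcard hsd'
    obtain ⟨σ, τ, l, h⟩ := exists_semi D (by omega : 4 ≤ n + 1) hcard hsd'
    refine ⟨σ, τ, _, l, h, ?_⟩
    rw [h3 hl, show n + 1 - 2 = n + 1 - 3 + 1 by omega, pow_succ']

theorem blockRank_le_three (hM : IsPModular 2 M) (hB : IsPBlock M B) {D : Subgroup G}
    (hD : IsDefectGroup 2 M B D) (hD' : IsTame D) : blockRank 2 B ≤ 3 := by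
  rcases hD' with ⟨n, hn, hdih⟩ | hsd
  · exact (Cfsg.Agent.S4528.result M hM B hB D hD n hn hdih).2.2.1
  · obtain ⟨n, hn, hcard, hxy⟩ := hsd
    exact (Cfsg.Agent.S4529.result M hM B hB D hD (n + 1) (by omega) hcard
      ⟨n, hn, hcard, hxy⟩).2.2.1

/-- No solvable group has such a block with a Sylow subgroup as defect group. -/
theorem false_of_sylow (hM : IsPModular 2 M) (hsol : Group.IsSolvable G) (hB : IsPBlock M B)
    (S : Sylow 2 G) (hD : IsDefectGroup 2 M B (S : Subgroup G))
    (hD' : IsTame (S : Subgroup G)) (hl : blockRank 2 B = 3) : False := by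
  rcases coords_of_rank_three hM hB hD hD' hl with ⟨σ, τ, q, l, h, hk⟩ | ⟨σ, τ, r, l, h, hk⟩
  · have hfus : ∀ u ∈ (S : Subgroup G), orderOf u = 2 → ∃ g : G, g * u * g⁻¹ = σ ^ q :=
      fun u hu hu2 => by
        by_contra hne
        push Not at hne
        have := blockRank_lt_of_dihedral hM hB hD h hu hu2 hne
        omega
    have hστ : σ * τ * (σ * τ) = 1 := by
      calc σ * τ * (σ * τ) = σ * (τ * σ * τ⁻¹) * (τ * τ) := by group
        _ = 1 := by rw [h.rel, h.τ_sq]; group
    have hq := h.two_le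
    have hτ1 : τ ≠ 1 := fun e => h.notMem (e ▸ one_mem _)
    have hστ1 : σ * τ ≠ 1 := fun e => h.notMem (by
      rw [show τ = σ⁻¹ from (eq_inv_of_mul_eq_one_right e)]
      exact inv_mem (Subgroup.mem_zpowers σ))
    have hc := commute_of_fused hsol S (z := σ ^ q) h.z_mem (fun g hg => h.z_commute hg) h.memτ
      (mul_mem h.memσ h.memτ)
      (hfus τ h.memτ (orderOf_eq_prime (by rw [pow_two]; exact h.τ_sq) hτ1))
      (hfus _ (mul_mem h.memσ h.memτ) (orderOf_eq_prime (by rw [pow_two]; exact hστ) hστ1))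
    have h2 : σ ^ 2 = 1 := by
      have h1 : σ⁻¹ * τ = σ * τ := by
        calc σ⁻¹ * τ = τ * σ * τ⁻¹ * τ := by rw [h.rel]
          _ = τ * (σ * τ) * τ⁻¹ := by group
          _ = σ * τ := by rw [hc.eq, mul_inv_cancel_right]
      rw [pow_two]
      nth_rw 1 [← mul_right_cancel h1]
      exact inv_mul_cancel σ
    have := Nat.le_of_dvd (by norm_num) (orderOf_dvd_of_pow_eq_one h2)
    rw [h.ord] at this
    omega
  · have hfus : ∃ g : G, g * τ * g⁻¹ = σ ^ (2 * r) := by
      by_contra hne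
      push Not at hne
      have := blockRank_lt_of_semi hM hB hD h hne
      omega
    obtain ⟨g, hg⟩ := hfus
    have hy : σ * τ * σ⁻¹ ∈ (S : Subgroup G) :=
      mul_mem (mul_mem h.memσ h.memτ) (inv_mem h.memσ)
    have hc := commute_of_fused hsol S (z := σ ^ (2 * r)) ((S : Subgroup G).pow_mem h.memσ _)
      (fun g hg => h.z_commute hg) h.memτ hy ⟨g, hg⟩ ⟨g * σ⁻¹, by rw [← hg]; group⟩
    have hr := h.two_le
    have hτ1 : τ ≠ 1 := fun e => h.notMem (e ▸ one_mem _)
    have hzσ : σ ^ (2 * r) * σ = σ * σ ^ (2 * r) := (Commute.refl σ).pow_left _ |>.eq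
    have hrel : τ * σ = σ⁻¹ * σ ^ (2 * r) * τ := by
      rw [← h.rel]; group
    have hord : ∀ m : ℕ, 0 < m → m < 2 * (2 * r) → σ ^ m ≠ 1 := fun m hm0 hm e => by
      have := Nat.le_of_dvd hm0 (orderOf_dvd_of_pow_eq_one e)
      rw [h.ord] at this
      omega
    rcases h.commute_τ hy hc.symm with e | e | e | e
    · exact hτ1 (conj_eq_one_iff.1 e)
    · refine h.τ_ne_z ?_
      calc τ = σ⁻¹ * (σ * τ * σ⁻¹) * σ := by group
        _ = σ ^ (2 * r) := by rw [e, mul_assoc, hzσ, inv_mul_cancel_left]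
    · have h1 : σ * τ = σ⁻¹ * σ ^ (2 * r) * τ := by
        rw [← hrel]
        exact mul_inv_eq_iff_eq_mul.1 e
      have h2 : σ * σ = σ ^ (2 * r) := by
        nth_rw 2 [mul_right_cancel h1]
        rw [mul_inv_cancel_left]
      rw [← pow_two] at h2
      refine hord (2 * r - 2) (by omega) (by omega) ?_
      rw [pow_sub _ (by omega : 2 ≤ 2 * r), h2, mul_inv_cancel]
    · have h1 : σ * τ = σ ^ (2 * r) * (σ⁻¹ * σ ^ (2 * r) * τ) := by
        rw [← hrel, ← mul_assoc]
        exact mul_inv_eq_iff_eq_mul.1 e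
      rw [← mul_assoc] at h1
      have h2 : σ = σ⁻¹ := by
        refine (mul_right_cancel h1).trans ?_
        rw [← mul_assoc, show σ ^ (2 * r) * σ⁻¹ = σ⁻¹ * σ ^ (2 * r) from
          ((Commute.refl σ).pow_left _).inv_right.eq, mul_assoc, h.z_sq, mul_one]
      refine hord 2 (by omega) (by omega) ?_
      rw [pow_two]
      nth_rw 1 [h2]
      exact inv_mul_cancel σ

omit [M.IsPrime] [Fact (Nat.Prime 2)] in
/-- The regular part of an induced function. -/
theorem pRegularPart_indFun (T : Subgroup G) [Fintype T] (ψ : T → ℂ) :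
    pRegularPart 2 (indFun T ψ) = indFun T (pRegularPart 2 ψ) := by
  funext g
  have key : ∀ x : G, extendByZero T (pRegularPart 2 ψ) (x⁻¹ * g * x) =
      if IsPRegular 2 g then extendByZero T ψ (x⁻¹ * g * x) else 0 := fun x => by
    have ho : orderOf (x⁻¹ * g * x) = orderOf g := by
      have := MulEquiv.orderOf_eq (MulAut.conj x⁻¹) g
      rwa [MulAut.conj_apply, inv_inv] at this
    by_cases hm : x⁻¹ * g * x ∈ T
    · have e : ∀ f : T → ℂ, extendByZero T f (x⁻¹ * g * x) = f ⟨_, hm⟩ := fun f =>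
        extendByZero_coe T f ⟨_, hm⟩
      rw [e, e, pRegularPart]
      simp only [IsPRegular, Subgroup.orderOf_mk, ho]
      by_cases hg : 2 ∣ orderOf g <;> simp [hg]
    · rw [extendByZero_of_notMem T _ hm, extendByZero_of_notMem T _ hm, ite_self]
  simp only [pRegularPart, indFun, Finset.sum_congr rfl fun x _ => key x]
  split_ifs <;> simp

/-- A solvable group has no such block. -/
theorem false_aux (hM : IsPModular 2 M) : ∀ (n : ℕ) (G : Type u) [Group G] [Fintype G],
    Nat.card G = n → Group.IsSolvable G → ∀ {B : Set (IrrCharacter G)}, IsPBlock M B →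
    ∀ {D : Subgroup G}, IsDefectGroup 2 M B D → IsTame D → blockRank 2 B = 3 → False := by
  intro n
  induction n using Nat.strong_induction_on with
  | _ n ih =>
    intro G _ _ hn hsol B hB D hD hD' hl
    let N := pPrimeCore 2 G
    have := Fintype.ofFinite N
    have hNp : ¬ 2 ∣ Nat.card N :=
      (Nat.Prime.coprime_iff_not_dvd Nat.prime_two).1
        (CfsgLib.Core.coprime_card_pPrimeCore 2 G).symm
    obtain ⟨χ, hχ⟩ := IsPBlock.nonempty hB
    obtain ⟨θ, hθ⟩ := exists_constituent N χ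
    by_cases hinv : ∀ g : G, conjIrr N g θ = θ
    · obtain ⟨B', hB', hmem, χ₁, hχ₁, hd₁⟩ :=
        FongInvariant.exists_block hM (CfsgLib.Core.isPSolvable_of_isSolvable hsol) rfl θ hinv
      obtain rfl : B' = B := IsPBlock.eq_of_mem hB' hB ((hmem χ).2 hθ) hχ
      obtain ⟨S, rfl⟩ := (FongInvariant.isDefectGroup_sylow hM hB hχ₁ hd₁).2 D hD
      exact false_of_sylow hM hsol hB S hD hD' hl
    · set T := Clifford.inertia (inferInstance : N.Normal) (θ : N → ℂ) with hTdef
      have hNT : N ≤ T := Clifford.le_inertia _ (IsIrr.isClassFunction θ.2)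
      have hT' : ∀ g : G, g ∈ T ↔ conjIrr N g θ = θ := fun g => by
        rw [hTdef, Clifford.mem_inertia, Subtype.ext_iff, conjIrr_eq_conjFn]
      have hT : ∀ g : G, g ∈ T ↔ ∀ φ ∈ ({θ} : Set (IrrCharacter N)),
          conjIrr N g φ ∈ ({θ} : Set (IrrCharacter N)) := fun g => by
        simp only [Set.mem_singleton_iff, forall_eq, hT']
      have hb : IsPBlock M ({θ} : Set (IrrCharacter N)) :=
        ⟨θ, (blockOf_eq_singleton_of_coprime hM hNp θ).symm⟩
      have hlt : Nat.card T < Nat.card G := by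
        refine lt_of_le_of_ne (Nat.le_of_dvd Nat.card_pos T.card_subgroup_dvd_card)
          fun he => hinv fun g => ?_
        exact (hT' g).1 ((Subgroup.eq_top_of_card_eq T he).symm ▸ Subgroup.mem_top g)
      have := Fintype.ofFinite T
      obtain ⟨ψ, hψ, hind, hBi⟩ :=
        exists_liesOver_of_mem N hNT hb hT hB hχ (Set.mem_singleton θ) hθ hχ
      have hB' := isPBlock_blockOf (M := M) ψ
      obtain ⟨D', hDd⟩ := exists_isDefectGroup (p := 2) hB'
      have hTs : ∀ g : G, g ∈ T ↔ ∀ φ ∈ ({θ} : Set (IrrCharacter N)), ∀ φ' : IrrCharacter N,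
          (∀ k : N, (φ' : N → ℂ) k = (φ : N → ℂ) ⟨g * k * g⁻¹,
            (inferInstance : N.Normal).conj_mem k k.2 g⟩) → φ' ∈ ({θ} : Set (IrrCharacter N)) :=
        fun g => (hT g).trans ⟨fun h φ hφ φ' he => by
            rw [show φ' = conjIrr N g φ from Subtype.ext (funext fun k => by
              rw [he k, conjIrr_apply])]
            exact h φ hφ,
          fun h φ hφ => h φ hφ _ fun k => conjIrr_apply N g φ k⟩
      have hmap := (Cfsg.Agent.S4436.result 2 M hM N _ hb T hTs hNT _ hB'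
        ⟨ψ, mem_blockOf_self ψ, hψ⟩ B hBi).1 D' hDd
      obtain ⟨x, hx⟩ := IsDefectGroup.exists_conj hM hB hmap hD
      have ecc : D' ≃* D :=
        (D'.equivMapOfInjective T.subtype T.subtype_injective).trans
          (((D'.map T.subtype).equivMapOfInjective _ (MulAut.conj x).injective).trans
            (MulEquiv.subgroupCongr hx))
      have hD'' : IsTame D' := hD'.congr ecc.symm
      refine ih (Nat.card T) (hn ▸ hlt) T rfl
        (Group.isSolvable_of_isSolvable_injective (f := T.subtype) T.subtype_injective)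
        hB' hDd hD'' (le_antisymm (blockRank_le_three hM hB' hDd hD'') ?_)
      -- the regular parts of the members are induced
      let L : (T → ℂ) →ₗ[ℂ] (G → ℂ) :=
        { toFun := indFun T
          map_add' := fun f f' => indFun_add T f f'
          map_smul' := fun c f => indFun_smul T c f }
      rw [← hl, blockRank, blockRank]
      refine le_trans (Submodule.finrank_mono (t := (Submodule.span ℂ
        ((fun φ : IrrCharacter T => pRegularPart 2 (φ : T → ℂ)) ''
          blockOf M (ψ : T → ℂ))).map L) (Submodule.span_le.2 ?_)) (Submodule.finrank_map_le _ _)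
      rintro _ ⟨χ', hχ', rfl⟩
      obtain ⟨ψ', hψ', hind', hBi'⟩ :=
        exists_liesOver_of_mem N hNT hb hT hB hχ (Set.mem_singleton θ) hθ hχ'
      have hsame : blockOf M (ψ' : T → ℂ) = blockOf M (ψ : T → ℂ) :=
        eq_of_isInducedBlock N hNT hb hT (mem_blockOf_self ψ') (mem_blockOf_self ψ) hψ' hψ hBi' hBi
      refine ⟨pRegularPart 2 (ψ' : T → ℂ),
        Submodule.subset_span ⟨ψ', hsame ▸ mem_blockOf_self ψ', rfl⟩, ?_⟩
      show indFun T _ = pRegularPart 2 _
      rw [← pRegularPart_indFun, hind']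

end CfsgLib.Blocks.RankThree
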